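import Mathlib
import Groth.Agent.H18Az.Separable

/-!
# Étale subalgebras of separable algebras and their centralizers
-/

set_option autoImplicit false
set_option linter.style.haveILetI false
universe u v

open TensorProduct Polynomial

namespace Groth.Agent.H23EtaleSub

/-- Semisimple rings are von Neumann regular. -/
theorem exists_mul_mul_eq {R : Type*} [Ring R] [IsSemisimpleRing R] (c : R) :
    ∃ x : R, c * x * c = c := by
  obtain ⟨q, hq⟩ := exists_isCompl (Submodule.span R ({c} : Set R))
  have h1 : (1 : R) ∈ Submodule.span R ({c} : Set R) ⊔ q := by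
    rw [hq.sup_eq_top]; exact Submodule.mem_top
  obtain ⟨a, ha, b, hb, hab⟩ := Submodule.mem_sup.mp h1
  obtain ⟨x, rfl⟩ := Submodule.mem_span_singleton.mp ha
  refine ⟨x, ?_⟩
  have h2 : c * b = c - c * (x • c) := by
    rw [eq_sub_iff_add_eq', ← mul_add, hab, mul_one]
  have h3 : c * b ∈ Submodule.span R ({c} : Set R) ⊓ q := by
    refine ⟨?_, q.smul_mem c hb⟩
    rw [h2]
    exact sub_mem (Submodule.mem_span_singleton_self c)
      ((Submodule.span R ({c} : Set R)).smul_mem c ha)
  rw [hq.inf_eq_bot, Submodule.mem_bot, h2, sub_eq_zero] at h3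
  rw [mul_assoc]
  exact h3.symm

variable {k : Type u} [Field k]

theorem isReduced_of_isSeparable {L : Type v} [CommRing L] [Algebra k L]
    [Algebra.IsSeparable k L] : IsReduced L := by
  refine ⟨fun x hx => ?_⟩
  obtain ⟨n, hn⟩ := hx
  have hd : minpoly k x ∣ X ^ n := minpoly.dvd k x (by simp [hn])
  have hsep : (minpoly k x).Separable := Algebra.IsSeparable.isSeparable k x
  obtain ⟨j, -, hj⟩ := (dvd_prime_pow Polynomial.prime_X n).mp hd
  have he : minpoly k x = X ^ j :=
    eq_of_monic_of_associated (minpoly.monic (IsSeparable.isIntegral hsep)) (monic_X_pow j) hj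
  rcases Nat.lt_or_ge j 2 with h | h
  · have h0 := minpoly.aeval k x
    rw [he, map_pow, aeval_X] at h0
    rcases (by omega : j = 0 ∨ j = 1) with rfl | rfl
    · rw [pow_zero] at h0
      rw [← mul_one x, h0, mul_zero]
    · rwa [pow_one] at h0
  · exfalso
    rw [he] at hsep
    have := hsep.squarefree
    exact Polynomial.not_isUnit_X (this X ((by rw [← sq]; exact pow_dvd_pow X h)))

/-- A finite commutative algebra all of whose elements are separable is unramified. -/
theorem formallyUnramified_of_isSeparable {L : Type v} [CommRing L] [Algebra k L]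
    [Module.Finite k L] [Algebra.IsSeparable k L] : Algebra.FormallyUnramified k L := by
  haveI : IsArtinianRing L := isArtinian_of_tower k inferInstance
  haveI : IsReduced L := isReduced_of_isSeparable (k := k)
  letI (m : MaximalSpectrum L) : Field (L ⧸ m.asIdeal) := Ideal.Quotient.field m.asIdeal
  haveI : ∀ m : MaximalSpectrum L, Algebra.FormallyUnramified k (L ⧸ m.asIdeal) := fun m => by
    haveI : Algebra.IsSeparable k (L ⧸ m.asIdeal) := ⟨fun y => by
      obtain ⟨x, rfl⟩ := Ideal.Quotient.mk_surjective y
      exact (Algebra.IsSeparable.isSeparable k x).of_dvd (minpoly.dvd k _ (by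
        rw [← Ideal.Quotient.mkₐ_eq_mk k, aeval_algHom_apply, minpoly.aeval, map_zero]))⟩
    exact Algebra.FormallyUnramified.of_isSeparable k _
  haveI := (Algebra.FormallyUnramified.pi_iff (R := k) fun m : MaximalSpectrum L => L ⧸ m.asIdeal).mpr
    inferInstance
  exact Algebra.FormallyUnramified.of_equiv ((IsArtinianRing.equivPi L).restrictScalars k).symm

/-- All elements of a finite unramified algebra over a field are separable. -/
theorem isSeparable_of_formallyUnramified {L : Type v} [CommRing L] [Algebra k L]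
    [Module.Finite k L] [Algebra.FormallyUnramified k L] : Algebra.IsSeparable k L := by
  classical
  haveI : IsArtinianRing L := isArtinian_of_tower k inferInstance
  haveI : IsReduced L := Algebra.FormallyUnramified.isReduced_of_field k L
  letI (m : MaximalSpectrum L) : Field (L ⧸ m.asIdeal) := Ideal.Quotient.field m.asIdeal
  haveI : ∀ m : MaximalSpectrum L, Algebra.IsSeparable k (L ⧸ m.asIdeal) := fun m => by
    haveI : Algebra.FormallyUnramified k (L ⧸ m.asIdeal) :=
      Algebra.FormallyUnramified.of_surjective (Ideal.Quotient.mkₐ k m.asIdeal)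
        Ideal.Quotient.mk_surjective
    exact Algebra.FormallyUnramified.isSeparable k _
  haveI : Fintype (MaximalSpectrum L) := Fintype.ofFinite _
  refine ⟨fun x => ?_⟩
  let q : MaximalSpectrum L → k[X] := fun m => minpoly k (Ideal.Quotient.mk m.asIdeal x)
  have hq : ∀ m, (q m).Separable := fun m => Algebra.IsSeparable.isSeparable k _
  have hint : ∀ m : MaximalSpectrum L, IsIntegral k (Ideal.Quotient.mk m.asIdeal x) := fun m => IsSeparable.isIntegral (hq m)
  have hP : (∏ p ∈ Finset.univ.image q, p).Separable := by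
    refine separable_prod' (fun a ha b hb hab => ?_) fun a ha => ?_
    · obtain ⟨m, -, rfl⟩ := Finset.mem_image.mp ha
      obtain ⟨m', -, rfl⟩ := Finset.mem_image.mp hb
      refine (minpoly.irreducible (hint m)).coprime_iff_not_dvd.mpr fun hd => hab ?_
      exact eq_of_monic_of_associated (minpoly.monic (hint m))
        (minpoly.monic (hint m'))
        ((minpoly.irreducible (hint m)).associated_of_dvd
          (minpoly.irreducible (hint m')) hd)
    · obtain ⟨m, -, rfl⟩ := Finset.mem_image.mp ha
      exact hq m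
  refine hP.of_dvd (minpoly.dvd k x ((IsArtinianRing.equivPi L).injective ?_))
  rw [map_zero]
  funext m
  show Ideal.Quotient.mk m.asIdeal (aeval x (∏ p ∈ Finset.univ.image q, p)) = 0
  rw [← Ideal.Quotient.mkₐ_eq_mk k, ← aeval_algHom_apply, map_prod]
  exact Finset.prod_eq_zero (Finset.mem_image_of_mem q (Finset.mem_univ m)) (minpoly.aeval k _)

variable {A : Type v} [Ring A] [Algebra k A]

/-- Averaging by the separability idempotent gives a bimodule projection onto the centralizer. -/
theorem exists_projection {L : Type v} [CommRing L] [Algebra k L] [Module.Finite k L]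
    [Algebra.FormallyUnramified k L] (ι : L →ₐ[k] A) :
    ∃ P : A →ₗ[k] A, (∀ a l, ι l * P a = P a * ι l) ∧
      (∀ c a, (∀ l, ι l * c = c * ι l) → P (c * a) = c * P a) ∧
      (∀ c a, (∀ l, ι l * c = c * ι l) → P (a * c) = P a * c) ∧
      (∀ c, (∀ l, ι l * c = c * ι l) → P c = c) := by
  let ιop : L →ₐ[k] Aᵐᵒᵖ := ι.toOpposite fun x y => by
    show ι x * ι y = ι y * ι x
    rw [← map_mul, mul_comm, map_mul]
  let Φ : L ⊗[k] L →ₐ[k] Module.End k A :=
    (AlgHom.mulLeftRight k A).comp (Algebra.TensorProduct.map ι ιop)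
  have hΦ : ∀ x y a, Φ (x ⊗ₜ y) a = ι x * a * ι y := fun x y a => by simp [Φ, ιop]
  let e := Algebra.FormallyUnramified.elem k L
  have gen : ∀ (t : L ⊗[k] L) (c a : A), (∀ l, ι l * c = c * ι l) →
      Φ t (c * a) = c * Φ t a ∧ Φ t (a * c) = Φ t a * c ∧
        Φ t c = ι (Algebra.TensorProduct.lmul' k t) * c := by
    intro t c a hc
    induction t using TensorProduct.induction_on with
    | zero => simp
    | tmul x y =>
      refine ⟨?_, ?_, ?_⟩
      · rw [hΦ, hΦ, ← mul_assoc (ι x) c, hc x]
        simp [mul_assoc]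
      · rw [hΦ, hΦ]
        simp [mul_assoc, hc y]
      · rw [hΦ, Algebra.TensorProduct.lmul'_apply_tmul, map_mul, mul_assoc, ← hc y, mul_assoc]
    | add s t hs ht =>
      simp [hs.1, hs.2.1, hs.2.2, ht.1, ht.2.1, ht.2.2, mul_add, add_mul]
  refine ⟨Φ e, fun a l => ?_, fun c a hc => (gen e c a hc).1, fun c a hc => (gen e c a hc).2.1,
    fun c hc => ?_⟩
  · have h := LinearMap.congr_fun
      (congrArg Φ (Algebra.FormallyUnramified.one_tmul_mul_elem (R := k) l)) a
    rw [map_mul, map_mul, Module.End.mul_apply, Module.End.mul_apply, hΦ, hΦ, map_one, one_mul,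
      mul_one] at h
    exact h.symm
  · rw [(gen e c 0 hc).2.2, Algebra.FormallyUnramified.lmul_elem, map_one, one_mul]

/-- The centralizer of an étale subalgebra of a separable algebra is regular. -/
theorem regular_centralizer {K : Type*} [Field K] [Algebra k K] [IsSemisimpleRing (K ⊗[k] A)]
    {L : Type v} [CommRing L] [Algebra k L] [Module.Finite k L]
    [Algebra.FormallyUnramified k L] (ι : L →ₐ[k] A) (c : A) (hc : ∀ l, ι l * c = c * ι l) :
    ∃ x, (∀ l, ι l * x = x * ι l) ∧ c * x * c = c := by
  obtain ⟨ρ, hρ⟩ := LinearMap.exists_leftInverse_of_injective (Algebra.linearMap k K)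
    (LinearMap.ker_eq_bot.mpr (algebraMap k K).injective)
  let R : K ⊗[k] A →ₗ[k] A := (TensorProduct.lid k A).toLinearMap ∘ₗ ρ.rTensor A
  have hR : ∀ (a b : A) (z : K ⊗[k] A), R ((1 ⊗ₜ a) * z * (1 ⊗ₜ b)) = a * R z * b := by
    intro a b z
    induction z using TensorProduct.induction_on with
    | zero => simp
    | tmul μ m => simp [R]
    | add s t hs ht => simp [mul_add, add_mul, hs, ht, map_add]
  have hR1 : R ((1 : K) ⊗ₜ[k] c) = c := by
    have h1 : ρ 1 = 1 := by simpa using LinearMap.congr_fun hρ 1
    simp [R, h1]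
  obtain ⟨z, hz⟩ := exists_mul_mul_eq ((1 : K) ⊗ₜ[k] c)
  have h0 : c * R z * c = c := by rw [← hR, hz, hR1]
  obtain ⟨P, hP1, hP2, hP3, hP4⟩ := exists_projection ι
  refine ⟨P (R z), fun l => hP1 _ l, ?_⟩
  rw [← hP2 c _ hc, ← hP3 c _ hc, h0, hP4 c hc]

/-- A central element of the centralizer of an étale subalgebra is separable. -/
theorem separable_of_central [FiniteDimensional k A] {K : Type*} [Field K] [Algebra k K]
    [IsAlgClosed K] [IsSemisimpleRing (K ⊗[k] A)] {L : Type v} [CommRing L] [Algebra k L]
    [Module.Finite k L] [Algebra.FormallyUnramified k L] (ι : L →ₐ[k] A) (z : A)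
    (hzL : ∀ l, ι l * z = z * ι l)
    (hz : ∀ c, (∀ l, ι l * c = c * ι l) → z * c = c * z) : IsSeparable k z := by
  have hi : IsIntegral k z := Algebra.IsIntegral.isIntegral z
  obtain ⟨P, hP1, hP2, hP3, hP4⟩ := exists_projection ι
  let PK : K ⊗[k] A →ₗ[k] K ⊗[k] A := P.lTensor K
  let y : K ⊗[k] A := 1 ⊗ₜ z
  have hy1 : ∀ t, PK (y * t) = y * PK t := by
    intro t
    induction t using TensorProduct.induction_on with
    | zero => simp
    | tmul μ m => simp [PK, y, hP2 z m hzL]
    | add s t hs ht => simp [mul_add, hs, ht, map_add]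
  have hy2 : ∀ t, PK (t * y) = PK t * y := by
    intro t
    induction t using TensorProduct.induction_on with
    | zero => simp
    | tmul μ m => simp [PK, y, hP3 z m hzL]
    | add s t hs ht => simp [add_mul, hs, ht, map_add]
  have hy3 : ∀ t, Commute y (PK t) := by
    intro t
    induction t using TensorProduct.induction_on with
    | zero => simp
    | tmul μ m => simp [Commute, SemiconjBy, PK, y, hz (P m) (fun l => hP1 m l)]
    | add s t hs ht => rw [map_add]; exact hs.add_right ht
  have hpolyL : ∀ (g : K[X]) t, PK (aeval y g * t) = aeval y g * PK t := by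
    intro g
    induction g using Polynomial.induction_on' with
    | add p q hp hq => intro t; simp [add_mul, map_add, hp, hq]
    | monomial n a =>
      induction n generalizing a with
      | zero =>
        intro t
        rw [monomial_zero_left, aeval_C, ← Algebra.smul_def, ← Algebra.smul_def]
        induction t using TensorProduct.induction_on with
        | zero => simp
        | tmul μ m => simp [PK, TensorProduct.smul_tmul']
        | add s t hs ht => simp [smul_add, map_add, hs, ht]
      | succ n ih =>
        intro t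
        rw [← monomial_mul_X, map_mul (aeval y), aeval_X, mul_assoc, ih a, hy1, mul_assoc]
  have hpolyC : ∀ (g : K[X]) t, Commute (aeval y g) (PK t) := by
    intro g t
    induction g using Polynomial.induction_on' with
    | add p q hp hq => rw [map_add]; exact hp.add_left hq
    | monomial n a =>
      rw [aeval_monomial]
      exact Commute.mul_left (Algebra.commutes a _) ((hy3 t).pow_left n)
  have hpolyR : ∀ (g : K[X]) t, PK (t * aeval y g) = PK t * aeval y g := by
    intro g
    induction g using Polynomial.induction_on' with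
    | add p q hp hq => intro t; simp [mul_add, map_add, hp, hq]
    | monomial n a =>
      induction n generalizing a with
      | zero =>
        intro t
        rw [monomial_zero_left, aeval_C, ← Algebra.commutes, ← Algebra.smul_def,
          ← Algebra.commutes, ← Algebra.smul_def]
        induction t using TensorProduct.induction_on with
        | zero => simp
        | tmul μ m => simp [PK, TensorProduct.smul_tmul']
        | add s t hs ht => simp [smul_add, map_add, hs, ht]
      | succ n ih =>
        intro t
        rw [← monomial_mul_X, map_mul (aeval y), aeval_X, ← mul_assoc, hy2, ih a, mul_assoc]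
  have hPK1 : PK 1 = 1 := by
    show PK ((1 : K) ⊗ₜ[k] (1 : A)) = (1 : K) ⊗ₜ[k] (1 : A)
    simp [PK, hP4 1 (fun l => by simp)]
  have hred : ∀ g : K[X], aeval y g * aeval y g = 0 → aeval y g = 0 := by
    intro g hg
    obtain ⟨x, hx⟩ := exists_mul_mul_eq (aeval y g)
    have h := congrArg PK hx
    rw [hpolyR, hpolyL, (hpolyC g x).eq, mul_assoc, hg, mul_zero,
      show PK (aeval y g) = PK (1 * aeval y g) by rw [one_mul], hpolyR, hPK1, one_mul] at h
    exact h.symm
  show (minpoly k z).Separable
  rw [← Polynomial.separable_map (algebraMap k K), PerfectField.separable_iff_squarefree]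
  intro q hq
  have hmin : minpoly K y = (minpoly k z).map (algebraMap k K) :=
    H18Az.Separable.minpoly_baseChange K hi
  obtain ⟨r, hr⟩ := hq
  have hp0 : (minpoly k z).map (algebraMap k K) ≠ 0 :=
    (map_monic_ne_zero (minpoly.monic hi))
  have h0 : aeval y (q * r) = 0 := by
    refine hred _ ?_
    rw [← map_mul, show q * r * (q * r) = minpoly K y * r by rw [hmin, hr]; ring, map_mul,
      minpoly.aeval, zero_mul]
  have hd := minpoly.dvd K y h0
  rw [hmin, hr] at hd
  obtain ⟨w, hw⟩ := hd
  refine isUnit_of_dvd_one ⟨w, mul_left_cancel₀ (a := q * r) (fun h => hp0 ?_) ?_⟩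
  · rw [hr, mul_assoc, h, mul_zero]
  · rw [mul_one]
    calc q * r = q * q * r * w := hw
      _ = q * r * (q * w) := by ring

omit [Algebra k A] in
/-- A division algebra with separable centre whose separable elements are central is commutative. -/
theorem commute_of_divisionRing {D : Type v} [DivisionRing D] [Algebra k D] [Module.Finite k D]
    (hcen : ∀ q : D, (∀ r, q * r = r * q) → IsSeparable k q)
    (hsep : ∀ x : D, IsSeparable k x → ∀ r, x * r = r * x) (x y : D) : x * y = y * x := by
  suffices hall : Subring.center D = ⊤ by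
    exact (Subring.mem_center_iff.mp (hall ▸ Subring.mem_top x : x ∈ Subring.center D) y).symm
  by_contra hne
  let φ : k →+* Subring.center D := (algebraMap k D).codRestrict _ fun r =>
    Subring.mem_center_iff.mpr fun g => (Algebra.commutes r g).symm
  letI : Algebra k (Subring.center D) := φ.toAlgebra
  haveI : IsScalarTower k (Subring.center D) D := .of_algebraMap_eq fun _ => rfl
  haveI : Algebra.IsAlgebraic (Subring.center D) D :=
    Algebra.IsAlgebraic.tower_top (K := k) _
  haveI : Algebra.IsSeparable k (Subring.center D) := ⟨fun q => by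
    have h := hcen (q : D) fun r => (Subring.mem_center_iff.mp q.2 r).symm
    show (minpoly k q).Separable
    rw [← minpoly.algebraMap_eq (B' := D) Subtype.val_injective q]
    exact h⟩
  obtain ⟨x, hx, hsx⟩ := JacobsonNoether.exists_separable_and_not_isCentral D hne
  have hsepk : IsSeparable k x := by
    let p := minpoly (Subring.center D) x
    have hp : p.Separable := hsx
    haveI : Fact (Irreducible p) := ⟨minpoly.irreducible (IsSeparable.isIntegral hsx)⟩
    haveI : Module.Finite (Subring.center D) (AdjoinRoot p) :=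
      (minpoly.monic (IsSeparable.isIntegral hsx)).finite_adjoinRoot
    haveI : Algebra.IsSeparable (Subring.center D) (AdjoinRoot p) := by
      have h1 := H18Az.Separable.separable_of_mem_adjoin (k := Subring.center D)
        (x := AdjoinRoot.root p) (IsIntegral.of_finite _ _) (hp.of_dvd (minpoly.dvd _ _ (by
          rw [AdjoinRoot.aeval_eq, AdjoinRoot.mk_self])))
      rw [AdjoinRoot.adjoinRoot_eq_top] at h1
      exact AlgEquiv.Algebra.isSeparable Subalgebra.topEquiv
    haveI : Algebra.IsSeparable k (AdjoinRoot p) :=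
      Algebra.IsSeparable.trans k (Subring.center D) (AdjoinRoot p)
    refine (Algebra.IsSeparable.isSeparable k (AdjoinRoot.root p)).of_dvd (minpoly.dvd k _ ?_)
    have h0 := minpoly.aeval k (AdjoinRoot.root p)
    rw [← aeval_map_algebraMap (Subring.center D), AdjoinRoot.aeval_eq, AdjoinRoot.mk_eq_zero] at h0
    obtain ⟨w, hw⟩ := h0
    rw [← aeval_map_algebraMap (Subring.center D), hw, map_mul, minpoly.aeval, zero_mul]
  exact hx (Subring.mem_center_iff.mpr fun g => (hsep x hsepk g).symm)

section Maximal

variable [FiniteDimensional k A] (K' : Type*) [Field K'] [Algebra k K'] [IsAlgClosed K']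
  [IsSemisimpleRing (K' ⊗[k] A)]

include K'

set_option maxHeartbeats 1000000 in
set_option synthInstance.maxHeartbeats 100000 in
open Classical in
/-- A maximal étale subalgebra of a separable algebra is its own centralizer. -/
theorem centralizer_eq_of_maximal {L : Type v} [CommRing L] [Algebra k L] [Module.Finite k L]
    [Algebra.IsSeparable k L] (ι : L →ₐ[k] A) (hι : Function.Injective ι)
    (hmax : ∀ z, (∀ l, ι l * z = z * ι l) → IsSeparable k z → z ∈ ι.range)
    (c : A) (hc : ∀ l, ι l * c = c * ι l) : c ∈ ι.range := by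
  haveI : Algebra.FormallyUnramified k L := formallyUnramified_of_isSeparable
  haveI : IsArtinianRing L := isArtinian_of_tower k inferInstance
  haveI : IsReduced L := isReduced_of_isSeparable (k := k)
  haveI : Fintype (MaximalSpectrum L) := Fintype.ofFinite _
  let E : MaximalSpectrum L → L := fun m => (IsArtinianRing.equivPi L).symm (Pi.single m 1)
  have hsum : ∑ m, E m = 1 := by
    simp only [E, ← map_sum]
    have h := Finset.univ_sum_single (1 : ∀ m : MaximalSpectrum L, L ⧸ m.asIdeal)
    simp only [Pi.one_apply] at h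
    rw [h, map_one]
  let C : Subalgebra k A := Subalgebra.centralizer k (ι.range : Set A)
  have memC : ∀ a, a ∈ C ↔ ∀ l, ι l * a = a * ι l := fun a => by
    rw [Subalgebra.mem_centralizer_iff]
    exact ⟨fun h l => h _ ⟨l, rfl⟩, by rintro h _ ⟨l, rfl⟩; exact h l⟩
  have hιC : ∀ l, ι l ∈ C := fun l => (memC _).mpr fun l' => by
    rw [← map_mul, ← map_mul, mul_comm]
  let ιC : L →ₐ[k] C := ι.codRestrict C hιC
  have hcomm : ∀ (l : L) (a : C), ιC l * a = a * ιC l := fun l a =>
    Subtype.ext ((memC _).mp a.2 l)
  have hidem : ∀ f : C, f * f = f → ∃ l, ιC l = f := by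
    intro f hf
    have hfA : (f : A) * f = f := congrArg Subtype.val hf
    obtain ⟨l, hl⟩ := hmax f ((memC _).mp f.2) (by
      refine Separable.of_dvd (f := X * (X - Polynomial.C 1)) ?_ (minpoly.dvd k _ (by
        simp [mul_sub, hfA]))
      exact separable_X.mul (separable_X_sub_C)
        (by simpa using isCoprime_X_sub_C_of_isUnit_sub (a := (0 : k)) (b := 1) (by simp)))
    exact ⟨l, Subtype.ext hl⟩
  suffices h : ∀ m, ∃ l, ι l = ι (E m) * c by
    choose l hl using h
    refine ⟨∑ m, l m, ?_⟩
    show ι (∑ m, l m) = c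
    rw [map_sum]
    simp only [hl]
    rw [← Finset.sum_mul, ← map_sum, hsum, map_one, one_mul]
  intro m
  have hEi : E m * E m = E m := by
    simp only [E, ← map_mul, ← Pi.single_mul, one_mul]
  have hEl : ∀ l : L, l * E m ≠ 0 → ∃ l', l' * (l * E m) = E m := by
    letI : Field (L ⧸ m.asIdeal) := Ideal.Quotient.field m.asIdeal
    intro l hl
    have hmne : IsArtinianRing.equivPi L l m ≠ 0 := by
      intro h0
      refine hl ((IsArtinianRing.equivPi L).injective ?_)
      rw [map_mul, map_zero]
      funext m'
      simp only [E, Pi.mul_apply, AlgEquiv.apply_symm_apply, Pi.zero_apply]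
      rcases eq_or_ne m' m with rfl | hne
      · rw [h0, zero_mul]
      · rw [Pi.single_eq_of_ne hne, mul_zero]
    refine ⟨(IsArtinianRing.equivPi L).symm (Pi.single m (IsArtinianRing.equivPi L l m)⁻¹), ?_⟩
    refine (IsArtinianRing.equivPi L).injective ?_
    funext m'
    simp only [E, map_mul, Pi.mul_apply, AlgEquiv.apply_symm_apply]
    rcases eq_or_ne m' m with rfl | hne
    · rw [Pi.single_eq_same, Pi.single_eq_same, mul_one]
      exact inv_mul_cancel₀ hmne
    · simp [Pi.single_eq_of_ne hne]
  let e : C := ιC (E m)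
  have he : e * e = e := by simp only [e, ← map_mul, hEi]
  have hec : ∀ a : C, e * a = a * e := fun a => hcomm _ a
  let I : Ideal C :=
    { carrier := {a | a * e = 0}
      add_mem' := fun {a b} ha hb => by simp [add_mul] at *; simp [ha, hb]
      zero_mem' := zero_mul _
      smul_mem' := fun r a ha => by
        show r * a * e = 0
        rw [mul_assoc, ha, mul_zero] }
  haveI : I.IsTwoSided := ⟨fun {a} b (ha : a * e = 0) => by
    show a * b * e = 0
    rw [mul_assoc, ← hec, ← mul_assoc, ha, zero_mul]⟩
  let π : C →ₐ[k] C ⧸ I := Ideal.Quotient.mkₐ k I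
  have hπ : Function.Surjective π := Ideal.Quotient.mk_surjective
  have hπ0 : ∀ a : C, π a = 0 ↔ a * e = 0 := fun a => Ideal.Quotient.eq_zero_iff_mem
  have hπe : π e = 1 := by
    rw [← sub_eq_zero, ← map_one π, ← map_sub, hπ0, sub_mul, he, one_mul, sub_self]
  have hunit : ∀ q : C ⧸ I, q ≠ 0 → ∃ r, r * q = 1 := by
    intro q hq
    obtain ⟨a, rfl⟩ := hπ q
    obtain ⟨x, hx, hax⟩ := regular_centralizer (K := K') ι (a : A) ((memC _).mp a.2)
    let x' : C := ⟨x, (memC _).mpr hx⟩
    have hax' : a * x' * a = a := Subtype.ext hax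
    obtain ⟨l, hl⟩ := hidem (x' * a) (by rw [mul_assoc, ← mul_assoc a, hax'])
    have hne : l * E m ≠ 0 := by
      intro h
      apply hq
      rw [hπ0, ← hax', mul_assoc, mul_assoc, ← mul_assoc x', ← hl]
      show a * (ιC l * ιC (E m)) = 0
      rw [← map_mul, h, map_zero, mul_zero]
    obtain ⟨l', hl'⟩ := hEl l hne
    refine ⟨π (ιC l' * x' * e), ?_⟩
    rw [← map_mul, ← hπe]
    congr 1
    show ιC l' * x' * ιC (E m) * a = ιC (E m)
    rw [mul_assoc _ (ιC (E m)), hcomm _ a, mul_assoc, ← mul_assoc x', ← hl, ← map_mul, ← map_mul,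
      hl']
  haveI : Nontrivial (C ⧸ I) := by
    refine ⟨1, 0, fun h => ?_⟩
    rw [← map_one π, hπ0, one_mul] at h
    have h2 : E m = 0 := hι (by rw [map_zero]; exact congrArg Subtype.val h)
    have h3 := congrFun (congrArg (IsArtinianRing.equivPi L) h2) m
    simp only [E, AlgEquiv.apply_symm_apply, map_zero, Pi.single_eq_same,
      Pi.zero_apply] at h3
    exact one_ne_zero h3
  have hIU : ∀ q : C ⧸ I, IsUnit q ∨ q = 0 := by
    intro q
    refine or_iff_not_imp_right.mpr fun hq => ?_
    obtain ⟨r, hr⟩ := hunit q hq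
    have hr0 : r ≠ 0 := fun h => one_ne_zero (α := C ⧸ I) (by rw [← hr, h, zero_mul])
    obtain ⟨s, hs⟩ := hunit r hr0
    have : s = q := by
      calc s = s * (r * q) := by rw [hr, mul_one]
        _ = q := by rw [← mul_assoc, hs, one_mul]
    exact ⟨⟨q, r, by rw [← this, hs], hr⟩, rfl⟩
  letI : DivisionRing (C ⧸ I) := DivisionRing.ofIsUnitOrEqZero hIU
  haveI : Module.Finite k (C ⧸ I) := Module.Finite.of_surjective π.toLinearMap hπ
  have hcen : ∀ q : C ⧸ I, (∀ r, q * r = r * q) → ∃ l, π (ιC l) = q := by
    intro q hq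
    obtain ⟨a, rfl⟩ := hπ q
    have hca : ∀ b : C, a * e * b = b * (a * e) := by
      intro b
      have h := hq (π b)
      rw [← map_mul, ← map_mul, ← sub_eq_zero, ← map_sub, hπ0, sub_mul, sub_eq_zero] at h
      calc a * e * b = a * b * e := by rw [mul_assoc, hec, ← mul_assoc]
        _ = b * (a * e) := by rw [h, mul_assoc]
    have hsep : IsSeparable k ((a * e : C) : A) :=
      separable_of_central (K := K') ι _ ((memC _).mp (a * e).2)
        fun b hb => congrArg Subtype.val (hca ⟨b, (memC _).mpr hb⟩)
    obtain ⟨l, hl⟩ := hmax _ ((memC _).mp (a * e).2) hsep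
    refine ⟨l, ?_⟩
    rw [show ιC l = a * e from Subtype.ext hl, map_mul, hπe, mul_one]
  have hcsep : ∀ q : C ⧸ I, (∀ r, q * r = r * q) → IsSeparable k q := by
    intro q hq
    obtain ⟨l, hl⟩ := hcen q hq
    refine (Algebra.IsSeparable.isSeparable k l).of_dvd (minpoly.dvd k _ ?_)
    rw [← hl, ← AlgHom.comp_apply, aeval_algHom_apply, minpoly.aeval, map_zero]
  have hscen : ∀ q : C ⧸ I, IsSeparable k q → ∀ r, q * r = r * q := by
    intro q hsepk
    obtain ⟨a, rfl⟩ := hπ q
    have hp : (minpoly k (π a)).Separable := hsepk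
    have hkill : aeval (a * e) (minpoly k (π a)) * e = 0 := by
      rw [← hπ0, ← aeval_algHom_apply, map_mul, hπe, mul_one, minpoly.aeval]
    have hfix : ∀ p : k[X], aeval (a * e) p * (1 - e) = algebraMap k C (p.coeff 0) * (1 - e) := by
      intro p
      conv_lhs => rw [← X_mul_divX_add p]
      rw [map_add, aeval_C, X_mul, map_mul, aeval_X, add_mul, mul_assoc, mul_assoc a, mul_sub, mul_one,
        he, sub_self, mul_zero, mul_zero, zero_add]
    have hsplit : ∀ p : k[X], aeval (a * e) p =
        aeval (a * e) p * e + algebraMap k C (p.coeff 0) * (1 - e) := fun p => by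
      rw [← hfix, ← mul_add, add_sub_cancel, mul_one]
    have hae : IsSeparable k ((a * e : C) : A) := by
      show (minpoly k (C.val (a * e))).Separable
      rw [minpoly.algHom_eq C.val Subtype.val_injective]
      rcases eq_or_ne ((minpoly k (π a)).coeff 0) 0 with h0 | h0
      · exact hp.of_dvd (minpoly.dvd k _ (by rw [hsplit, hkill, h0, map_zero, zero_mul, add_zero]))
      · refine Separable.of_dvd (f := X * minpoly k (π a)) (separable_X.mul hp ?_) (minpoly.dvd k _ ?_)
        · exact irreducible_X.coprime_iff_not_dvd.mpr fun h => h0 (X_dvd_iff.mp h)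
        · rw [map_mul, aeval_X, mul_assoc a, hec, hkill, mul_zero]
    obtain ⟨l, hl⟩ := hmax _ ((memC _).mp (a * e).2) hae
    have : π a = π (ιC l) := by
      rw [show ιC l = a * e from Subtype.ext hl, map_mul, hπe, mul_one]
    intro r
    obtain ⟨b, rfl⟩ := hπ r
    rw [this, ← map_mul, ← map_mul, hcomm]
  obtain ⟨l, hl⟩ := hcen (π ⟨c, (memC _).mpr hc⟩) fun r =>
    commute_of_divisionRing hcsep hscen _ r
  refine ⟨l * E m, ?_⟩
  have h := sub_eq_zero.mpr hl
  rw [← map_sub, hπ0, sub_mul, sub_eq_zero] at h
  have h2 := congrArg Subtype.val h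
  show ι (l * E m) = _
  rw [map_mul, ((memC _).mp ((memC _).mpr hc)) (E m)]
  exact h2

end Maximal

end Groth.Agent.H23EtaleSub
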